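import Groth.Agent.Lib.Helper19.Sm.SmoothLocusDescent
import Groth.Agent.Lib.Helper19.EtalePointwise
import Mathlib.AlgebraicGeometry.Morphisms.Smooth

set_option autoImplicit false
universe u
open CategoryTheory CategoryTheory.Limits AlgebraicGeometry

namespace Groth.Agent.Lib.Helper19

/-- Pointwise descent of smoothness along a flat base change: for a cartesian square with `g` flat
and `f` locally of finite presentation, if `f'` is smooth at `x'` then `f` is smooth at `g' x'`. -/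
theorem mem_smoothLocus_of_isPullback_of_flat {X S X' S' : Scheme.{u}} (f : X ⟶ S) (g : S' ⟶ S)
    (f' : X' ⟶ S') (g' : X' ⟶ X) (H : IsPullback g' f' f g) [LocallyOfFinitePresentation f]
    [LocallyOfFinitePresentation f'] [Flat g] (x' : X') (hx' : x' ∈ f'.smoothLocus) :
    g' x' ∈ f.smoothLocus := by
  set x := g' x' with hx
  obtain ⟨_, ⟨V : S.Opens, hV : IsAffineOpen V, rfl⟩, hxV, -⟩ :=
    S.isBasis_affineOpens.exists_subset_of_mem_open (Set.mem_univ (f x)) isOpen_univ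
  have hgV : f' x' ∈ g ⁻¹ᵁ V := by
    change g (f' x') ∈ V
    have : g (f' x') = f x := by
      rw [← Scheme.Hom.comp_apply, ← H.w, Scheme.Hom.comp_apply]
    rw [this]
    exact hxV
  obtain ⟨_, ⟨V' : S'.Opens, hV' : IsAffineOpen V', rfl⟩, hx'V', hV'V⟩ :=
    S'.isBasis_affineOpens.exists_subset_of_mem_open hgV (g ⁻¹ᵁ V).2
  obtain ⟨_, ⟨U₀ : X.Opens, hU₀ : IsAffineOpen U₀, rfl⟩, hxU₀, hU₀V⟩ :=
    X.isBasis_affineOpens.exists_subset_of_mem_open (show x ∈ f ⁻¹ᵁ V from hxV) (f ⁻¹ᵁ V).2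
  have hV'V' : V' ≤ g ⁻¹ᵁ V := hV'V
  have hU₀V' : U₀ ≤ f ⁻¹ᵁ V := hU₀V
  set W : X'.Opens := g' ⁻¹ᵁ U₀ ⊓ f' ⁻¹ᵁ V' with hW
  have hx'W : x' ∈ W := ⟨hxU₀, hx'V'⟩
  have hiso := isIso_pushoutSection_of_isAffineOpen H hV'V' hU₀V' hW hV hV' hU₀
  have hpo := (isIso_pushoutSection_iff H hV'V' hU₀V' hW).mp hiso
  have hWaff : IsAffineOpen W := by
    have : IsAffine V := hV
    have : IsAffine V' := hV'
    have : IsAffine U₀ := hU₀
    exact .of_isIso (Scheme.Hom.isPullback_resLE H hV'V' hU₀V' hW).isoPullback.hom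
  have e₁ : W ≤ g' ⁻¹ᵁ U₀ := inf_le_left
  have e₂ : W ≤ f' ⁻¹ᵁ V' := inf_le_right
  let _ : Algebra Γ(S, V) Γ(X, U₀) := (f.appLE V U₀ hU₀V').hom.toAlgebra
  let _ : Algebra Γ(S, V) Γ(S', V') := (g.appLE V V' hV'V').hom.toAlgebra
  let _ : Algebra Γ(X, U₀) Γ(X', W) := (g'.appLE U₀ W e₁).hom.toAlgebra
  let _ : Algebra Γ(S', V') Γ(X', W) := (f'.appLE V' W e₂).hom.toAlgebra
  let _ : Algebra Γ(S, V) Γ(X', W) :=
    ((g'.appLE U₀ W e₁).hom.comp (f.appLE V U₀ hU₀V').hom).toAlgebra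
  have : IsScalarTower Γ(S, V) Γ(X, U₀) Γ(X', W) := .of_algebraMap_eq' rfl
  have : IsScalarTower Γ(S, V) Γ(S', V') Γ(X', W) := .of_algebraMap_eq' (by
    change (g'.appLE U₀ W e₁).hom.comp (f.appLE V U₀ hU₀V').hom =
      (f'.appLE V' W e₂).hom.comp (g.appLE V V' hV'V').hom
    rw [← CommRingCat.hom_comp, ← CommRingCat.hom_comp, hpo.w])
  have hpush : Algebra.IsPushout Γ(S, V) Γ(S', V') Γ(X, U₀) Γ(X', W) :=
    CommRingCat.isPushout_iff_isPushout.mp hpo.flip
  have hfp : Algebra.FinitePresentation Γ(S, V) Γ(X, U₀) := f.finitePresentation_appLE hV hU₀ hU₀V'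
  have hflat : Module.Flat Γ(S, V) Γ(S', V') := g.flat_appLE hV hV' hV'V'
  set P' := hWaff.primeIdealOf ⟨x', hx'W⟩ with hP'
  have hsm' : P' ∈ Algebra.smoothLocus Γ(S', V') Γ(X', W) :=
    (formallySmooth_stalkMap_iff V' hV' W hWaff e₂ hx'W).mp hx'
  have hsm := comap_mem_smoothLocus_of_isPushout (A := Γ(S, V)) (A' := Γ(S', V'))
    (B := Γ(X, U₀)) P' hsm'
  have hcomap := IsAffineOpen.comap_primeIdealOf_appLE (f := g') U₀ hU₀ W hWaff e₁ hx'W
  refine (formallySmooth_stalkMap_iff V hV U₀ hU₀ hU₀V' hxU₀).mpr ?_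
  rw [← hcomap]
  exact hsm

/-- The restriction of `f` to its smooth locus is smooth. -/
lemma smooth_ι_smoothLocus {X Y : Scheme.{u}} (f : X ⟶ Y) [LocallyOfFinitePresentation f] :
    Smooth (f.smoothLocus.ι ≫ f) := by
  rw [← Scheme.Hom.smoothLocus_eq_top_iff, ← Scheme.Hom.preimage_smoothLocus_eq]
  ext a
  simpa using a.2

lemma mem_smoothLocus_iff_exists_nhd {X Y : Scheme.{u}} (f : X ⟶ Y)
    [LocallyOfFinitePresentation f] (x : X) :
    x ∈ f.smoothLocus ↔ ∃ U : X.Opens, x ∈ U ∧ Smooth (U.ι ≫ f) := by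
  constructor
  · intro hx
    exact ⟨f.smoothLocus, hx, smooth_ι_smoothLocus f⟩
  · rintro ⟨U, hxU, hU⟩
    have h1 : (U.ι ≫ f).smoothLocus = ⊤ := Scheme.Hom.smoothLocus_eq_top _
    rw [← Scheme.Hom.preimage_smoothLocus_eq] at h1
    have h2 : (⟨x, hxU⟩ : U.toScheme) ∈ U.ι ⁻¹ᵁ f.smoothLocus := by
      rw [h1]
      trivial
    exact h2

/-- The smooth locus is compatible with base change (easy inclusion). -/
lemma preimage_smoothLocus_le_of_isPullback {X S X' S' : Scheme.{u}} (f : X ⟶ S) (g : S' ⟶ S)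
    (f' : X' ⟶ S') (g' : X' ⟶ X) (H : IsPullback g' f' f g) [LocallyOfFinitePresentation f]
    [LocallyOfFinitePresentation f'] : g' ⁻¹ᵁ f.smoothLocus ≤ f'.smoothLocus := by
  intro x' hx'
  rw [mem_smoothLocus_iff_exists_nhd]
  refine ⟨g' ⁻¹ᵁ f.smoothLocus, hx', ?_⟩
  have H1 : IsPullback (g' ∣_ f.smoothLocus) ((g' ⁻¹ᵁ f.smoothLocus).ι ≫ f')
      (f.smoothLocus.ι ≫ f) g :=
    (isPullback_morphismRestrict g' f.smoothLocus).paste_vert H
  exact MorphismProperty.of_isPullback H1 (smooth_ι_smoothLocus f)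

/-- Pointwise descent of smoothness along a base change which is flat at a point
(EGA IV 17.7.1). -/
theorem mem_smoothLocus_fst_of_flat_stalkMap {X Y Y' : Scheme.{u}} (f : X ⟶ Y)
    [LocallyOfFinitePresentation f] (g : Y' ⟶ Y) (x' : ↑(pullback f g))
    (hg : (g.stalkMap ((pullback.snd f g).base x')).hom.Flat)
    (h : x' ∈ (pullback.snd f g).smoothLocus) : (pullback.fst f g) x' ∈ f.smoothLocus := by
  set y' := (pullback.snd f g).base x' with hy'
  let j := Y'.fromSpecStalk y'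
  have hjg : Flat (j ≫ g) := by
    rw [← Scheme.SpecMap_stalkMap_fromSpecStalk]
    have : Flat (Spec.map (g.stalkMap y')) := Flat.SpecMap_iff.mpr hg
    infer_instance
  let π₁ : pullback (pullback.snd f g) j ⟶ pullback f g := pullback.fst _ _
  let π₂ : pullback (pullback.snd f g) j ⟶ Spec (Y'.presheaf.stalk y') := pullback.snd _ _
  obtain ⟨z, hz₁, hz₂⟩ := Scheme.Pullback.exists_preimage_pullback
    (f := pullback.snd f g) (g := j) x'
    (IsLocalRing.closedPoint (Y'.presheaf.stalk y'))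
    (by rw [Scheme.fromSpecStalk_closedPoint])
  have H1 : IsPullback π₁ π₂ (pullback.snd f g) j := IsPullback.of_hasPullback _ _
  have H2 : IsPullback (pullback.fst f g) (pullback.snd f g) f g := IsPullback.of_hasPullback _ _
  have H3 : IsPullback (π₁ ≫ pullback.fst f g) π₂ f (j ≫ g) := H1.paste_horiz H2
  have hz : z ∈ π₂.smoothLocus := by
    apply preimage_smoothLocus_le_of_isPullback (pullback.snd f g) j π₂ π₁ H1
    change π₁ z ∈ (pullback.snd f g).smoothLocus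
    rw [hz₁]
    exact h
  have key := mem_smoothLocus_of_isPullback_of_flat f (j ≫ g) π₂ (π₁ ≫ pullback.fst f g) H3 z hz
  rw [Scheme.Hom.comp_apply, hz₁] at key
  exact key

end Groth.Agent.Lib.Helper19
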