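import Mathlib
import Groth.Agent.Lib.Helper19.Sm.SmoothDescent

/-!
# The étale locus as the intersection of the smooth and the unramified loci
-/

set_option autoImplicit false
universe u

open CategoryTheory CategoryTheory.Limits AlgebraicGeometry

namespace Groth.Agent.Lib.Helper19

lemma etale_iff_smooth_and_formallyUnramified {X Y : Scheme.{u}} (f : X ⟶ Y) :
    Etale f ↔ Smooth f ∧ FormallyUnramified f := by
  constructor
  · intro h
    exact ⟨inferInstance, inferInstance⟩
  · rintro ⟨h1, h2⟩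
    exact Etale.of_formallyUnramified_of_flat (f := f)

lemma formallyUnramified_ι_comp_of_le {X Y : Scheme.{u}} (f : X ⟶ Y) {W U : X.Opens} (h : W ≤ U)
    (hU : FormallyUnramified (U.ι ≫ f)) : FormallyUnramified (W.ι ≫ f) := by
  rw [← X.homOfLE_ι h, Category.assoc]
  exact MorphismProperty.comp_mem _ _ _ (inferInstance : FormallyUnramified (X.homOfLE h)) hU

lemma exists_nhd_etale_iff {X Y : Scheme.{u}} (f : X ⟶ Y) [LocallyOfFinitePresentation f]
    (x : X) :
    (∃ W : X.Opens, x ∈ W ∧ Etale (W.ι ≫ f)) ↔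
      (f.stalkMap x).hom.FormallySmooth ∧
        ∃ U : X.Opens, x ∈ U ∧ FormallyUnramified (U.ι ≫ f) := by
  constructor
  · rintro ⟨W, hxW, hW⟩
    refine ⟨?_, W, hxW, inferInstance⟩
    exact (mem_smoothLocus_iff_exists_nhd f x).mpr ⟨W, hxW, inferInstance⟩
  · rintro ⟨h1, U, hxU, hU⟩
    have hx : x ∈ f.smoothLocus := h1
    refine ⟨f.smoothLocus ⊓ U, ⟨hx, hxU⟩, ?_⟩
    rw [etale_iff_smooth_and_formallyUnramified]
    refine ⟨?_, formallyUnramified_ι_comp_of_le f inf_le_right hU⟩
    rw [← Scheme.Hom.smoothLocus_eq_top_iff, ← Scheme.Hom.preimage_smoothLocus_eq]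
    ext a
    simp only [TopologicalSpace.Opens.coe_top, Set.mem_univ, iff_true]
    exact a.2.1

end Groth.Agent.Lib.Helper19
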