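import Groth.Agent.Lib.Helper19.Sm.SmoothFiberRing
import Groth.Agent.Lib.Helper19.Sm.SmoothDescent
import Mathlib.AlgebraicGeometry.Morphisms.SmoothFiber

set_option autoImplicit false
universe u
open CategoryTheory CategoryTheory.Limits AlgebraicGeometry

namespace Groth.Agent.Lib.Helper19

set_option backward.isDefEq.respectTransparency false in
/-- Pointwise fibre criterion, with the whole fibre smooth: if `f` is locally of finite
presentation, flat at `x` and the fibre of `f` over `f x` is smooth, then `f` is smooth at `x`. -/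
theorem mem_smoothLocus_of_flat_of_smooth_fiber {X S : Scheme.{u}} (f : X ⟶ S)
    [LocallyOfFinitePresentation f] (x : X) (hflat : (f.stalkMap x).hom.Flat)
    (hfib : Smooth (f.fiberToSpecResidueField (f x))) : x ∈ f.smoothLocus := by
  obtain ⟨_, ⟨V : S.Opens, hV : IsAffineOpen V, rfl⟩, hxV, -⟩ :=
    S.isBasis_affineOpens.exists_subset_of_mem_open (Set.mem_univ (f x)) isOpen_univ
  obtain ⟨_, ⟨U₀ : X.Opens, hU₀ : IsAffineOpen U₀, rfl⟩, hxU₀, hU₀V⟩ :=
    X.isBasis_affineOpens.exists_subset_of_mem_open (show x ∈ f ⁻¹ᵁ V from hxV) (f ⁻¹ᵁ V).2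
  have hU₀V' : U₀ ≤ f ⁻¹ᵁ V := hU₀V
  have hfp := f.finitePresentation_appLE hV hU₀ hU₀V'
  algebraize [(f.appLE V U₀ hU₀V').hom]
  let pS := hV.primeIdealOf ⟨f x, hU₀V' hxU₀⟩
  let p := pS.asIdeal
  let q := (hU₀.primeIdealOf ⟨x, hxU₀⟩).asIdeal
  have : q.LiesOver p :=
    ⟨congr($(IsAffineOpen.comap_primeIdealOf_appLE V hV U₀ hU₀ hU₀V' hxU₀).1).symm⟩
  let := Localization.AtPrime.algebraOfLiesOver p q
  have hfl : Module.Flat (Localization.AtPrime p) (Localization.AtPrime q) := by
    have := (RingHom.Flat.respectsIso.arrow_mk_iso_iff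
      (IsAffineOpen.arrowStalkMapIso f V hV U₀ hU₀ hU₀V' hxU₀)).mp hflat
    exact this
  -- the fibre of the affine chart
  have hfibre : Smooth ((Spec.map (f.appLE V U₀ hU₀V')).fiberToSpecResidueField pS) := by
    have hpt : hV.fromSpec pS = f x := hV.fromSpec_primeIdealOf ⟨f x, hU₀V' hxU₀⟩
    have hfib' : Smooth (f.fiberToSpecResidueField (hV.fromSpec pS)) := hpt ▸ hfib
    have H0 := IsPullback.of_hasPullback f hV.fromSpec
    have hsnd : Smooth ((pullback.snd f hV.fromSpec).fiberToSpecResidueField pS) :=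
      MorphismProperty.of_isPullback (isPullback_fiberToSpecResidueField_of_isPullback H0 pS) hfib'
    let k : Spec Γ(X, U₀) ⟶ pullback f hV.fromSpec :=
      pullback.lift hU₀.fromSpec (Spec.map (f.appLE V U₀ hU₀V'))
        (IsAffineOpen.SpecMap_appLE_fromSpec f hV hU₀ hU₀V').symm
    have hk : IsOpenImmersion k := by
      have : IsOpenImmersion (k ≫ pullback.fst f hV.fromSpec) := by
        rw [pullback.lift_fst]; infer_instance
      exact IsOpenImmersion.of_comp k (pullback.fst f hV.fromSpec)
    have hkφ : Spec.map (f.appLE V U₀ hU₀V') = k ≫ pullback.snd f hV.fromSpec :=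
      (pullback.lift_snd _ _ _).symm
    have key : ∀ (F : Spec Γ(X, U₀) ⟶ Spec Γ(S, V)), F = k ≫ pullback.snd f hV.fromSpec →
        Smooth (F.fiberToSpecResidueField pS) := by
      rintro _ rfl
      have _ : Smooth (pullback.snd (pullback.snd f hV.fromSpec)
          ((Spec Γ(S, V)).fromSpecResidueField pS)) := hsnd
      rw [Scheme.Hom.fiberToSpecResidueField, ← pullbackRightPullbackFstIso_inv_snd_snd]
      infer_instance
    exact key _ hkφ
  have hfs : Algebra.FormallySmooth p.ResidueField (p.Fiber Γ(X, U₀)) := by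
    rw [← RingHom.formallySmooth_algebraMap]
    refine RingHom.Smooth.formallySmooth ?_
    rw [← CommRingCat.hom_ofHom (algebraMap p.ResidueField (p.Fiber ↑Γ(X, U₀))),
      ← HasRingHomProperty.Spec_iff (P := @Smooth),
      ← MorphismProperty.arrow_mk_iso_iff (P := @Smooth)
        (Spec.fiberToSpecResidueFieldIso Γ(S, V) Γ(X, U₀) pS)]
    exact hfibre
  have := isSmoothAt_of_flat_of_formallySmooth_fiber p q
  exact (formallySmooth_stalkMap_iff V hV U₀ hU₀ hU₀V' hxU₀).mpr this

lemma fiberι_apply_eq {X S : Scheme.{u}} (f : X ⟶ S) (s : S) (z : f.fiber s) :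
    f (f.fiberι s z) = s := by
  have h := (f.range_fiberι s).le ⟨z, rfl⟩
  exact h

set_option backward.isDefEq.respectTransparency false in
/-- Pointwise fibre criterion for smoothness (EGA IV 17.5.1): if `f` is flat at `x = ι z` and the
fibre through `x` is smooth at `z`, then `f` is smooth at `x`. -/
theorem mem_smoothLocus_of_flat_of_mem_smoothLocus_fiber {X S : Scheme.{u}} (f : X ⟶ S)
    [LocallyOfFinitePresentation f] (s : S)
    [LocallyOfFinitePresentation (f.fiberToSpecResidueField s)] (z : f.fiber s)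
    (hflat : (f.stalkMap (f.fiberι s z)).hom.Flat)
    (hz : z ∈ (f.fiberToSpecResidueField s).smoothLocus) : f.fiberι s z ∈ f.smoothLocus := by
  set π := f.fiberToSpecResidueField s with hπ
  set ι := f.fiberι s with hι
  obtain ⟨U', hU'open, hU'⟩ := (f.fiberι s).isEmbedding.isInducing.isOpen_iff.mp π.smoothLocus.2
  let U : X.Opens := ⟨U', hU'open⟩
  have hxU : ι z ∈ U := by
    change z ∈ ι ⁻¹' U'
    rw [hU']
    exact hz
  let x₀ : U.toScheme := ⟨ι z, hxU⟩
  -- flatness of the restriction
  have hflat₀ : ((U.ι ≫ f).stalkMap x₀).hom.Flat := by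
    rw [Scheme.Hom.stalkMap_comp]
    have hiso : IsIso (U.ι.stalkMap x₀) := inferInstance
    exact (RingHom.Flat.respectsIso.cancel_right_isIso (f.stalkMap (U.ι x₀))
      (U.ι.stalkMap x₀)).mpr hflat
  -- smoothness of the fibre of the restriction
  have hfib₀ : ∀ t : S, s = t → Smooth ((U.ι ≫ f).fiberToSpecResidueField t) := by
    rintro _ rfl
    let o : pullback U.ι ι ⟶ f.fiber s := pullback.snd U.ι ι
    have ho : Smooth (o ≫ π) := by
      rw [← Scheme.Hom.smoothLocus_eq_top_iff, ← Scheme.Hom.preimage_smoothLocus_eq]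
      rw [eq_top_iff]
      rintro w -
      have hmem : o w ∈ (f.fiberι s) ⁻¹' U' → o w ∈ (π.smoothLocus : Set _) := fun hh => by
        rw [hU'] at hh
        exact hh
      apply hmem
      change ι (o w) ∈ U'
      have : ι (o w) = U.ι ((pullback.fst U.ι ι) w) := by
        rw [← Scheme.Hom.comp_apply, ← Scheme.Hom.comp_apply, pullback.condition]
      rw [this]
      exact ((pullback.fst U.ι ι) w).2
    rw [Scheme.Hom.fiberToSpecResidueField, ← pullbackRightPullbackFstIso_inv_snd_snd]
    exact MorphismProperty.comp_mem _ _ _ (inferInstance : Smooth (pullbackRightPullbackFstIso f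
      (S.fromSpecResidueField s) U.ι).inv) ho
  have hfx : s = (U.ι ≫ f) x₀ := (fiberι_apply_eq f s z).symm
  have key := mem_smoothLocus_of_flat_of_smooth_fiber (U.ι ≫ f) x₀ hflat₀ (hfib₀ _ hfx)
  rw [← Scheme.Hom.preimage_smoothLocus_eq] at key
  exact key

set_option backward.isDefEq.respectTransparency false in
/-- The smooth locus commutes with base change if `f` or `g` is flat (EGA IV 17.7.1/17.7.4). -/
theorem smoothLocus_eq_preimage_of_isPullback {X S X' S' : Scheme.{u}} (f : X ⟶ S) (g : S' ⟶ S)
    (f' : X' ⟶ S') (g' : X' ⟶ X) (h : IsPullback g' f' f g) [LocallyOfFinitePresentation f]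
    [LocallyOfFinitePresentation f'] (hflat : Flat f ∨ Flat g) :
    f'.smoothLocus = g' ⁻¹ᵁ f.smoothLocus := by
  refine le_antisymm ?_ (Groth.Agent.Lib.Helper19.preimage_smoothLocus_le_of_isPullback f g f' g' h)
  intro x' hx'
  change g' x' ∈ f.smoothLocus
  rcases hflat with hf | hg
  · -- `f` flat: use the fibres
    set s' := f' x' with hs'
    have hlfp' : LocallyOfFinitePresentation (f'.fiberToSpecResidueField s') :=
      inferInstanceAs (LocallyOfFinitePresentation (pullback.snd _ _))
    have hlfp : LocallyOfFinitePresentation (f.fiberToSpecResidueField (g s')) :=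
      inferInstanceAs (LocallyOfFinitePresentation (pullback.snd _ _))
    have hz' : f'.asFiber x' ∈ (f'.fiberToSpecResidueField s').smoothLocus := by
      have H : IsPullback (f'.fiberι s') (f'.fiberToSpecResidueField s') f'
          (S'.fromSpecResidueField s') := IsPullback.of_hasPullback _ _
      apply Groth.Agent.Lib.Helper19.preimage_smoothLocus_le_of_isPullback f' _ _ _ H
      change f'.fiberι s' (f'.asFiber x') ∈ f'.smoothLocus
      rw [Scheme.Hom.fiberι_asFiber]
      exact hx'
    have Hfib := isPullback_fiberToSpecResidueField_of_isPullback h s'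
    set m := pullback.map f' (S'.fromSpecResidueField s') f (S.fromSpecResidueField (g s')) g'
      (Spec.map (g.residueFieldMap s')) g h.w.symm (by simp) with hm
    have hmz := Groth.Agent.Lib.Helper19.mem_smoothLocus_of_isPullback_of_flat
      (f.fiberToSpecResidueField (g s')) (Spec.map (g.residueFieldMap s'))
      (f'.fiberToSpecResidueField s') m Hfib (f'.asFiber x') hz'
    have key := Groth.Agent.Lib.Helper19.mem_smoothLocus_of_flat_of_mem_smoothLocus_fiber f
      (g s') (m (f'.asFiber x')) (Flat.stalkMap f _) hmz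
    have hpt : f.fiberι (g s') (m (f'.asFiber x')) = g' x' := by
      have h1 : m ≫ f.fiberι (g s') = f'.fiberι s' ≫ g' := pullback.lift_fst _ _ _
      change (m ≫ f.fiberι (g s')) (f'.asFiber x') = g' x'
      rw [h1]
      change g' (f'.fiberι s' (f'.asFiber x')) = g' x'
      rw [Scheme.Hom.fiberι_asFiber]
    rw [hpt] at key
    exact key
  · exact Groth.Agent.Lib.Helper19.mem_smoothLocus_of_isPullback_of_flat f g f' g' h x' hx'

end Groth.Agent.Lib.Helper19
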