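import Groth.Agent.Lib.Helper19.Sm.RelFiberCore
import Groth.Agent.Lib.Helper19.Sm.SmoothFiberPointwise

set_option autoImplicit false
universe u
open CategoryTheory CategoryTheory.Limits AlgebraicGeometry TensorProduct

namespace Groth.Agent.Lib.Helper19

/-- `Spec κ(p) ⟶ Spec Γ(S, W) ⟶ S` agrees with `Spec κ(s) ⟶ S` up to the canonical isomorphism
of residue fields. -/
lemma SpecMap_algebraMap_residueField_fromSpec {S : Scheme.{u}} {W : S.Opens} (hW : IsAffineOpen W)
    (pS : Spec Γ(S, W)) :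
    Spec.map (CommRingCat.ofHom (algebraMap Γ(S, W) pS.asIdeal.ResidueField)) ≫ hW.fromSpec =
      Spec.map (hW.fromSpec.residueFieldMap pS ≫ (Scheme.Spec.residueFieldIso Γ(S, W) pS).hom) ≫
        S.fromSpecResidueField (hW.fromSpec pS) := by
  rw [Spec.map_comp, Category.assoc, Scheme.Hom.SpecMap_residueFieldMap_fromSpecResidueField,
    ← Scheme.Spec.map_residueFieldIso_inv_eq_fromSpecResidueField, ← Category.assoc,
    ← Category.assoc, ← Spec.map_comp, Iso.inv_hom_id, Spec.map_id, Category.id_comp]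

/-- Relative fibre criterion, for the fibre over a point of the form `hW.fromSpec pS`. -/
theorem mem_smoothLocus_of_flat_of_smooth_fiberMap_aux {X Y S : Scheme.{u}} (g : Y ⟶ S)
    (f : X ⟶ Y) [LocallyOfFinitePresentation f]
    {W : S.Opens} (hW : IsAffineOpen W) (pS : Spec Γ(S, W))
    {X' : Scheme.{u}} (ι' : X' ⟶ X) (f' : X' ⟶ g.fiber (hW.fromSpec pS))
    [LocallyOfFinitePresentation f'] (H : IsPullback ι' f' f (g.fiberι (hW.fromSpec pS)))
    (x' : X') (hflat : ((f ≫ g).stalkMap (ι' x')).hom.Flat) (hx' : x' ∈ f'.smoothLocus) :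
    ι' x' ∈ f.smoothLocus := by
  let ε : S.residueField (hW.fromSpec pS) ⟶ CommRingCat.of pS.asIdeal.ResidueField :=
    hW.fromSpec.residueFieldMap pS ≫ (Scheme.Spec.residueFieldIso Γ(S, W) pS).hom
  have hε : IsIso ε := inferInstance
  have hσ := SpecMap_algebraMap_residueField_fromSpec hW pS
  let πY : g.fiber (hW.fromSpec pS) ⟶ Spec (CommRingCat.of pS.asIdeal.ResidueField) :=
    g.fiberToSpecResidueField (hW.fromSpec pS) ≫ Spec.map (inv ε)
  have H0 : IsPullback (g.fiberι (hW.fromSpec pS)) (g.fiberToSpecResidueField (hW.fromSpec pS)) g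
      (S.fromSpecResidueField (hW.fromSpec pS)) := IsPullback.of_hasPullback _ _
  have H1 : IsPullback (g.fiberι (hW.fromSpec pS)) πY g
      (Spec.map (CommRingCat.ofHom (algebraMap Γ(S, W) pS.asIdeal.ResidueField)) ≫
        hW.fromSpec) := by
    refine IsPullback.of_iso H0 (Iso.refl _) (Iso.refl _) (asIso (Spec.map (inv ε))) (Iso.refl _)
      (by simp) (by simp [πY]) (by simp) ?_
    rw [hσ]
    simp only [Iso.refl_hom, Category.comp_id, asIso_hom]
    rw [← Category.assoc, ← Spec.map_comp, IsIso.hom_inv_id, Spec.map_id, Category.id_comp]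
  -- the point
  have hs : (f ≫ g) (ι' x') = (hW.fromSpec pS) := by
    have h1 : f (ι' x') = g.fiberι (hW.fromSpec pS) (f' x') := by
      rw [← Scheme.Hom.comp_apply, ← Scheme.Hom.comp_apply, H.w]
    rw [Scheme.Hom.comp_apply, h1]
    exact fiberι_apply_eq g (hW.fromSpec pS) (f' x')
  -- an open neighbourhood whose preimage lies in the smooth locus
  have hemb : IsPreimmersion ι' := MorphismProperty.of_isPullback H.flip inferInstance
  obtain ⟨O, hO⟩ : ∃ O : X.Opens, ι' ⁻¹ᵁ O = f'.smoothLocus := by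
    obtain ⟨O, hOo, hO⟩ := (ι'.isEmbedding.isInducing.isOpen_iff).mp f'.smoothLocus.2
    exact ⟨⟨O, hOo⟩, TopologicalSpace.Opens.ext hO⟩
  have hxO : ι' x' ∈ O := by
    have : x' ∈ ι' ⁻¹ᵁ O := hO ▸ hx'
    exact this
  exact mem_smoothLocus_of_flat_of_smooth_fiberMap_core g f hW pS (g.fiberι (hW.fromSpec pS)) πY H1 ι' f' H x'
    hs hflat O hxO hO.le

/-- **Relative fibre criterion for smoothness at a point** (EGA IV 17.8.2): let `f : X ⟶ Y` be a
morphism locally of finite presentation of `S`-schemes (`g : Y ⟶ S`), `s` a point of `S` and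
`f' : X' ⟶ Y_s` the base change of `f` along the fibre `Y_s ⟶ Y`. If `X ⟶ S` is flat at the image
`x` of `x' ∈ X'` and `f'` is smooth at `x'`, then `f` is smooth at `x`. -/
theorem mem_smoothLocus_of_flat_of_smooth_fiberMap {X Y S : Scheme.{u}} (g : Y ⟶ S)
    (f : X ⟶ Y) [LocallyOfFinitePresentation f] (s : S)
    {X' : Scheme.{u}} (ι' : X' ⟶ X) (f' : X' ⟶ g.fiber s)
    [LocallyOfFinitePresentation f'] (H : IsPullback ι' f' f (g.fiberι s))
    (x' : X') (hflat : ((f ≫ g).stalkMap (ι' x')).hom.Flat) (hx' : x' ∈ f'.smoothLocus) :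
    ι' x' ∈ f.smoothLocus := by
  obtain ⟨_, ⟨W : S.Opens, hW : IsAffineOpen W, rfl⟩, hsW, -⟩ :=
    S.isBasis_affineOpens.exists_subset_of_mem_open (Set.mem_univ s) isOpen_univ
  obtain ⟨pS, rfl⟩ : ∃ pS, hW.fromSpec pS = s :=
    ⟨hW.primeIdealOf ⟨s, hsW⟩, hW.fromSpec_primeIdealOf ⟨s, hsW⟩⟩
  exact mem_smoothLocus_of_flat_of_smooth_fiberMap_aux g f hW pS ι' f' H x' hflat hx'

end Groth.Agent.Lib.Helper19
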