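import Mathlib

/-!
# An étale universally injective morphism is an open immersion
-/

set_option autoImplicit false
universe u

open CategoryTheory CategoryTheory.Limits AlgebraicGeometry

namespace Groth.Agent.Lib.Helper19

/-- A universally injective, formally unramified morphism locally of finite type is a
monomorphism. -/
theorem mono_of_formallyUnramified_of_universallyInjective {X Y : Scheme.{u}} (f : X ⟶ Y)
    [FormallyUnramified f] [LocallyOfFiniteType f] [UniversallyInjective f] : Mono f := by
  rw [← pullback.isIso_diagonal_iff, isIso_iff_isOpenImmersion_and_surjective]
  exact ⟨inferInstance, (UniversallyInjective.iff_diagonal f).mp inferInstance⟩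

/-- An étale universally injective morphism is an open immersion. -/
theorem isOpenImmersion_of_etale_of_universallyInjective {X Y : Scheme.{u}} (f : X ⟶ Y)
    [Etale f] [UniversallyInjective f] : IsOpenImmersion f := by
  haveI := mono_of_formallyUnramified_of_universallyInjective f
  exact IsOpenImmersion.of_flat_of_mono f

end Groth.Agent.Lib.Helper19
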