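import Mathlib.RingTheory.Extension.Cotangent.BaseChange
import Mathlib.RingTheory.Smooth.Locus
import Mathlib.RingTheory.Flat.Equalizer
import Mathlib.RingTheory.Support

set_option autoImplicit false
universe u

open TensorProduct

namespace Groth.Agent.Lib.Helper19

attribute [local instance] Algebra.TensorProduct.rightAlgebra

variable (A B A' : Type u) [CommRing A] [CommRing B] [CommRing A'] [Algebra A B] [Algebra A A']
  [Module.Flat A A']

/-- Flat base change: if `H¹` of the cotangent complex of `A' ⊗ B` over `A'` vanishes at a prime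
`P'`, then `H¹` of `B` over `A` vanishes at the contraction of `P'`. -/
lemma notMem_support_h1Cotangent_of_baseChange (P' : PrimeSpectrum (A' ⊗[A] B))
    (h : P' ∉ Module.support (A' ⊗[A] B) (Algebra.H1Cotangent A' (A' ⊗[A] B))) :
    PrimeSpectrum.comap (algebraMap B (A' ⊗[A] B)) P' ∉
      Module.support B (Algebra.H1Cotangent A B) := by
  rw [Module.notMem_support_iff'] at h ⊢
  intro m
  obtain ⟨u, hu, hum⟩ := h (Algebra.H1Cotangent.map A A' B (A' ⊗[A] B) m)
  by_contra hcon
  push Not at hcon
  let mh : B →ₗ[A] Algebra.H1Cotangent A B :=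
    (LinearMap.toSpanSingleton B _ m).restrictScalars A
  have key : ∀ u : A' ⊗[A] B, Algebra.tensorH1CotangentOfFlat A B A' (LinearMap.lTensor A' mh u) =
      u • Algebra.H1Cotangent.map A A' B (A' ⊗[A] B) m := by
    intro u
    induction u with
    | zero => simp
    | add x y hx hy => simp only [map_add, add_smul, hx, hy]
    | tmul a b =>
      rw [LinearMap.lTensor_tmul, Algebra.tensorH1CotangentOfFlat_tmul]
      have h1 : mh b = b • m := rfl
      rw [h1, map_smul]
      have h2 : (a ⊗ₜ[A] b : A' ⊗[A] B) = a • (algebraMap B (A' ⊗[A] B) b) := by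
        have : algebraMap B (A' ⊗[A] B) b = 1 ⊗ₜ[A] b := rfl
        rw [this, smul_tmul', smul_eq_mul, mul_one]
      rw [h2, smul_assoc, algebraMap_smul]
  have h0 : LinearMap.lTensor A' mh u = 0 := by
    apply (Algebra.tensorH1CotangentOfFlat A B A').injective
    rw [key, hum, map_zero]
  have hex := Module.Flat.lTensor_exact A' (LinearMap.exact_subtype_ker_map mh)
  have hmem : ∀ w : A' ⊗[A] (LinearMap.ker mh),
      LinearMap.lTensor A' (LinearMap.ker mh).subtype w ∈ P'.asIdeal := by
    intro w
    induction w with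
    | zero => simp
    | add x y hx hy =>
      rw [map_add]
      exact Ideal.add_mem _ hx hy
    | tmul a k =>
      rw [LinearMap.lTensor_tmul]
      have hk : k.1 • m = 0 := k.2
      have hkP : k.1 ∈ (PrimeSpectrum.comap (algebraMap B (A' ⊗[A] B)) P').asIdeal := by
        by_contra hk'
        exact hcon k.1 hk' hk
      have hkP' : algebraMap B (A' ⊗[A] B) k.1 ∈ P'.asIdeal := hkP
      have h2 : (a ⊗ₜ[A] ((LinearMap.ker mh).subtype k) : A' ⊗[A] B) =
          (a ⊗ₜ[A] (1 : B)) * (algebraMap B (A' ⊗[A] B) k.1) := by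
        have : algebraMap B (A' ⊗[A] B) k.1 = 1 ⊗ₜ[A] k.1 := rfl
        rw [this, Algebra.TensorProduct.tmul_mul_tmul, mul_one, one_mul]
        rfl
      rw [h2]
      exact Ideal.mul_mem_left _ _ hkP'
  obtain ⟨w, rfl⟩ := (hex u).mp h0
  exact hu (hmem w)

end Groth.Agent.Lib.Helper19
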