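import Mathlib

/-!
# Quasi-finiteness at a point is invariant under arbitrary base change
-/

set_option autoImplicit false
universe u

open CategoryTheory CategoryTheory.Limits AlgebraicGeometry

namespace Groth.Agent.Lib.Helper19

/-- Quasi-finiteness at `x` in terms of any point of any fibre lying over `x`. -/
lemma quasiFiniteAt_iff_isOpen_singleton_of_fiberι_eq {X Y : Scheme.{u}} {f : X ⟶ Y}
    [LocallyOfFiniteType f] (y : Y) (z : f.fiber y) (x : X) (hz : f.fiberι y z = x) :
    f.QuasiFiniteAt x ↔ IsOpen {z} := by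
  have hy : f x = y := by
    have : f.fiberι y z ∈ Set.range (f.fiberι y) := ⟨z, rfl⟩
    rw [Scheme.Hom.range_fiberι, hz] at this
    exact this
  subst hy
  have hz' : z = f.asFiber x :=
    (f.fiberι (f x)).isEmbedding.injective (hz.trans (f.fiberι_asFiber x).symm)
  subst hz'
  exact Scheme.Hom.quasiFiniteAt_iff_isOpen_singleton_asFiber

lemma quasiFiniteAt_iff_exists_nhd {X Y : Scheme.{u}} (f : X ⟶ Y) [LocallyOfFiniteType f]
    (x : X) :
    f.QuasiFiniteAt x ↔ ∃ W : X.Opens, x ∈ W ∧ LocallyQuasiFinite (W.ι ≫ f) := by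
  constructor
  · intro h
    exact ⟨f.quasiFiniteLocus, h, inferInstance⟩
  · rintro ⟨W, hxW, hW⟩
    have h1 : (W.ι ≫ f).quasiFiniteLocus = ⊤ := Scheme.Hom.quasiFiniteLocus_eq_top _
    rw [Scheme.Hom.quasiFiniteLocus_comp] at h1
    have h2 : (⟨x, hxW⟩ : W.toScheme) ∈ W.ι ⁻¹ᵁ f.quasiFiniteLocus := by rw [h1]; trivial
    exact h2

/-- Quasi-finiteness at a point is invariant under arbitrary base change. -/
theorem quasiFiniteAt_iff_of_isPullback {X' X Y' Y : Scheme.{u}} {k : X' ⟶ X}
    {f' : X' ⟶ Y'} {f : X ⟶ Y} {g : Y' ⟶ Y} (sq : IsPullback k f' f g)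
    [LocallyOfFiniteType f] (x' : X') :
    f'.QuasiFiniteAt x' ↔ f.QuasiFiniteAt (k x') := by
  haveI : LocallyOfFiniteType f' :=
    MorphismProperty.of_isPullback (P := @LocallyOfFiniteType) sq inferInstance
  constructor
  · intro h
    set y' := f' x' with hy'
    have sqF := isPullback_fiberToSpecResidueField_of_isPullback sq y'
    set φ : f'.fiber y' ⟶ f.fiber (g y') :=
      pullback.map _ _ _ _ k (Spec.map (g.residueFieldMap y')) g sq.w.symm (by simp) with hφ
    haveI : UniversallyOpen φ :=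
      MorphismProperty.of_isPullback (P := @UniversallyOpen) sqF.flip inferInstance
    have h1 : IsOpen {f'.asFiber x'} :=
      Scheme.Hom.quasiFiniteAt_iff_isOpen_singleton_asFiber.mp h
    have h2 : IsOpen {φ (f'.asFiber x')} := by
      have := φ.isOpenMap _ h1
      rwa [Set.image_singleton] at this
    have h3 : f.fiberι (g y') (φ (f'.asFiber x')) = k x' := by
      rw [← Scheme.Hom.comp_apply]
      have : φ ≫ f.fiberι (g y') = f'.fiberι y' ≫ k := pullback.lift_fst _ _ _
      rw [this, Scheme.Hom.comp_apply, Scheme.Hom.fiberι_asFiber]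
    exact (quasiFiniteAt_iff_isOpen_singleton_of_fiberι_eq (g y') _ (k x') h3).mpr h2
  · intro h
    rw [quasiFiniteAt_iff_exists_nhd]
    refine ⟨k ⁻¹ᵁ f.quasiFiniteLocus, h, ?_⟩
    have sq' : IsPullback (k ∣_ f.quasiFiniteLocus) ((k ⁻¹ᵁ f.quasiFiniteLocus).ι ≫ f')
        (f.quasiFiniteLocus.ι ≫ f) g :=
      (isPullback_morphismRestrict k f.quasiFiniteLocus).paste_vert sq
    exact MorphismProperty.of_isPullback (P := @LocallyQuasiFinite) sq' inferInstance

end Groth.Agent.Lib.Helper19
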