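import Groth.Agent.Lib.Helper19.Sm.RelFiberSpec
import Groth.Agent.Lib.Helper19.Sm.SmoothDescent
import Groth.Agent.Lib.Helper19.RingHomProp

set_option autoImplicit false
universe u
open CategoryTheory CategoryTheory.Limits AlgebraicGeometry TensorProduct

namespace Groth.Agent.Lib.Helper19

set_option backward.isDefEq.respectTransparency false in
/-- Core of the relative fibre criterion for smoothness (EGA IV 17.8.2), with the fibre over the
point `hW.fromSpec pS` of `S` presented as a pullback along `Spec κ(p) ⟶ Spec Γ(S, W) ⟶ S`. -/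
theorem mem_smoothLocus_of_flat_of_smooth_fiberMap_core {X Y S : Scheme.{u}} (g : Y ⟶ S)
    (f : X ⟶ Y) [LocallyOfFinitePresentation f]
    {W : S.Opens} (hW : IsAffineOpen W) (pS : Spec Γ(S, W))
    {Y₁ X₁ : Scheme.{u}} (ιY : Y₁ ⟶ Y)
    (πY : Y₁ ⟶ Spec (CommRingCat.of pS.asIdeal.ResidueField))
    (H1 : IsPullback ιY πY g (Spec.map (CommRingCat.ofHom
      (algebraMap Γ(S, W) pS.asIdeal.ResidueField)) ≫ hW.fromSpec))
    (ιX : X₁ ⟶ X) (f₁ : X₁ ⟶ Y₁) [LocallyOfFinitePresentation f₁] (H2 : IsPullback ιX f₁ f ιY)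
    (x₁ : X₁) (hs : (f ≫ g) (ιX x₁) = hW.fromSpec pS)
    (hflat : ((f ≫ g).stalkMap (ιX x₁)).hom.Flat)
    (O : X.Opens) (hxO : ιX x₁ ∈ O) (hO : ιX ⁻¹ᵁ O ≤ f₁.smoothLocus) :
    ιX x₁ ∈ f.smoothLocus := by
  set x := ιX x₁ with hx
  have hsW : (f ≫ g) x ∈ W := by
    rw [hs]
    exact hW.range_fromSpec.le ⟨pS, rfl⟩
  obtain ⟨_, ⟨V : Y.Opens, hV : IsAffineOpen V, rfl⟩, hxV, hVW⟩ :=
    Y.isBasis_affineOpens.exists_subset_of_mem_open (show f x ∈ g ⁻¹ᵁ W from hsW) (g ⁻¹ᵁ W).2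
  have hVW' : V ≤ g ⁻¹ᵁ W := hVW
  obtain ⟨_, ⟨U : X.Opens, hU : IsAffineOpen U, rfl⟩, hxU, hUVO⟩ :=
    X.isBasis_affineOpens.exists_subset_of_mem_open
      (show x ∈ ((f ⁻¹ᵁ V ⊓ O : X.Opens) : Set X) from ⟨hxV, hxO⟩) (f ⁻¹ᵁ V ⊓ O).2
  have hUV : U ≤ f ⁻¹ᵁ V := fun y hy => (hUVO hy).1
  have hUO : U ≤ O := fun y hy => (hUVO hy).2
  have hUW : U ≤ (f ≫ g) ⁻¹ᵁ W := fun y hy => hVW' (hUV hy)
  have hfp := f.finitePresentation_appLE hV hU hUV
  algebraize [(g.appLE W V hVW').hom, (f.appLE V U hUV).hom, ((f ≫ g).appLE W U hUW).hom]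
  have hcomp : g.appLE W V hVW' ≫ f.appLE V U hUV = (f ≫ g).appLE W U hUW :=
    Scheme.Hom.appLE_comp_appLE ..
  have : IsScalarTower Γ(S, W) Γ(Y, V) Γ(X, U) := .of_algebraMap_eq' (by
    change ((f ≫ g).appLE W U hUW).hom = (f.appLE V U hUV).hom.comp (g.appLE W V hVW').hom
    rw [← hcomp]; rfl)
  let p := pS.asIdeal
  let qX := hU.primeIdealOf ⟨x, hxU⟩
  let q := qX.asIdeal
  have hpS : hW.primeIdealOf ⟨(f ≫ g) x, hsW⟩ = pS := by
    apply hW.fromSpec.isOpenEmbedding.injective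
    exact (hW.fromSpec_primeIdealOf ⟨(f ≫ g) x, hsW⟩).trans hs
  have hcomap := IsAffineOpen.comap_primeIdealOf_appLE W hW U hU hUW hxU
  have hqp : q.LiesOver p :=
    ⟨by
      have := congr($(hcomap).1)
      rw [hpS] at this
      exact this.symm⟩
  -- flatness
  have hfl : Module.Flat Γ(S, W) (Localization.AtPrime q) := by
    let p' := (hW.primeIdealOf ⟨(f ≫ g) x, hsW⟩).asIdeal
    have : q.LiesOver p' := ⟨congr($(hcomap).1).symm⟩
    let := Localization.AtPrime.algebraOfLiesOver p' q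
    have h1 : Module.Flat (Localization.AtPrime p') (Localization.AtPrime q) := by
      have := (RingHom.Flat.respectsIso.arrow_mk_iso_iff
        (IsAffineOpen.arrowStalkMapIso (f ≫ g) W hW U hU hUW hxU)).mp hflat
      exact this
    exact Module.Flat.trans Γ(S, W) (Localization.AtPrime p') (Localization.AtPrime q)
  -- the fibre rings
  let k := p.ResidueField
  let TB := Spec (CommRingCat.of (k ⊗[Γ(S, W)] Γ(Y, V)))
  let TC := Spec (CommRingCat.of (k ⊗[Γ(S, W)] Γ(X, U)))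
  let τB : TB ⟶ Spec Γ(Y, V) := Spec.map (CommRingCat.ofHom
    (Algebra.TensorProduct.includeRight.toRingHom : Γ(Y, V) →+* k ⊗[Γ(S, W)] Γ(Y, V)))
  let πB : TB ⟶ Spec (CommRingCat.of k) :=
    Spec.map (CommRingCat.ofHom (algebraMap k (k ⊗[Γ(S, W)] Γ(Y, V))))
  let τC : TC ⟶ Spec Γ(X, U) := Spec.map (CommRingCat.ofHom
    (Algebra.TensorProduct.includeRight.toRingHom : Γ(X, U) →+* k ⊗[Γ(S, W)] Γ(X, U)))
  let Φ : TC ⟶ TB := Spec.map (CommRingCat.ofHom (tensorMapRingHom Γ(S, W) Γ(Y, V) Γ(X, U) k))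
  have E1 : IsPullback τB πB (Spec.map (g.appLE W V hVW'))
      (Spec.map (CommRingCat.ofHom (algebraMap Γ(S, W) k))) :=
    isPullback_Spec_tensor Γ(S, W) Γ(Y, V) k
  have E2 : IsPullback τC Φ (Spec.map (f.appLE V U hUV)) τB :=
    isPullback_Spec_tensorMap Γ(S, W) Γ(Y, V) Γ(X, U) k
  -- the comparison map to the given fibre
  have hgW : Spec.map (g.appLE W V hVW') ≫ hW.fromSpec = hV.fromSpec ≫ g :=
    IsAffineOpen.SpecMap_appLE_fromSpec g hW hV hVW'
  have hfV : Spec.map (f.appLE V U hUV) ≫ hV.fromSpec = hU.fromSpec ≫ f :=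
    IsAffineOpen.SpecMap_appLE_fromSpec f hV hU hUV
  let e : TB ⟶ Y₁ := H1.lift (τB ≫ hV.fromSpec) πB (by
    rw [Category.assoc, ← hgW, ← Category.assoc, E1.w, Category.assoc])
  have he : e ≫ ιY = τB ≫ hV.fromSpec := H1.lift_fst _ _ _
  have hmono : IsPullback τB (𝟙 TB) hV.fromSpec (τB ≫ hV.fromSpec) :=
    (IsPullback.of_horiz_isIso_mono ⟨by simp⟩).flip
  have E2' : IsPullback τC Φ (hU.fromSpec ≫ f) (e ≫ ιY) := by
    have := E2.paste_vert hmono
    rw [Category.comp_id, hfV, ← he] at this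
    exact this
  -- the restriction of the fibre map to `U`
  have H2U : IsPullback (ιX ∣_ U) ((ιX ⁻¹ᵁ U).ι ≫ f₁) (U.ι ≫ f) ιY :=
    (isPullback_morphismRestrict ιX U).paste_vert H2
  have hsm : Smooth ((ιX ⁻¹ᵁ U).ι ≫ f₁) := by
    rw [← Scheme.Hom.smoothLocus_eq_top_iff, ← Scheme.Hom.preimage_smoothLocus_eq]
    ext a
    simpa using hO (hUO a.2)
  have hiso : IsPullback hU.isoSpec.inv (hU.fromSpec ≫ f) (U.ι ≫ f) (𝟙 Y) :=
    IsPullback.of_horiz_isIso ⟨by simp [IsAffineOpen.isoSpec_inv_ι_assoc]⟩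
  have big : IsPullback (τC ≫ hU.isoSpec.inv) Φ (U.ι ≫ f) (e ≫ ιY) := by
    have := E2'.paste_horiz hiso
    rwa [Category.comp_id] at this
  have final := IsPullback.of_right' big H2U
  have hΦ : Smooth Φ := MorphismProperty.of_isPullback final hsm
  have hring : (tensorMapRingHom Γ(S, W) Γ(Y, V) Γ(X, U) k).Smooth := by
    have := (HasRingHomProperty.Spec_iff (P := @Smooth)).mp hΦ
    exact this
  have hsmAt : Algebra.IsSmoothAt Γ(Y, V) q :=
    isSmoothAt_of_flat_of_formallySmooth_fiber_rel p q hring.formallySmooth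
  exact (formallySmooth_stalkMap_iff V hV U hU hUV hxU).mpr hsmAt

end Groth.Agent.Lib.Helper19
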