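import Groth.Agent.Lib.Helper19.Sm.RelFiber
import Groth.Agent.Lib.Helper19.FlatStalkDescent
import Groth.Agent.Lib.Helper79.LfpOfComp
import Groth.Agent.Lib.Helper19.UnramifiedFiber
import Groth.Agent.Lib.Helper19.FlatUnramified

set_option autoImplicit false
universe u
open CategoryTheory CategoryTheory.Limits AlgebraicGeometry

namespace Groth.Agent.Lib.Helper19

/-- If all fibre maps `X_s ⟶ Y_s` of an `S`-morphism `f : X ⟶ Y` are smooth and `X ⟶ S` is flat at
`x`, then `f` is smooth at `x`. -/
theorem mem_smoothLocus_of_flat_of_forall_smooth_fiberMap {X Y S : Scheme.{u}} (g : Y ⟶ S)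
    (f : X ⟶ Y) [LocallyOfFinitePresentation f] (x : X)
    (hflat : ((f ≫ g).stalkMap x).hom.Flat)
    (hf : Smooth (pullback.snd f (g.fiberι (g (f x))))) : x ∈ f.smoothLocus := by
  set s := g (f x) with hs
  have hy : f x ∈ Set.range (g.fiberι s) := by
    rw [Scheme.Hom.range_fiberι]; rfl
  obtain ⟨y, hy⟩ := hy
  obtain ⟨z, hz₁, hz₂⟩ := Scheme.Pullback.exists_preimage_pullback (f := f) (g := g.fiberι s)
    x y hy.symm
  have key := mem_smoothLocus_of_flat_of_smooth_fiberMap g f s (pullback.fst f (g.fiberι s))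
    (pullback.snd f (g.fiberι s)) (IsPullback.of_hasPullback _ _) z (hz₁ ▸ hflat)
    (by rw [Scheme.Hom.smoothLocus_eq_top]; trivial)
  rwa [hz₁] at key

/-- EGA IV 17.8.2 (global form): for `h : X ⟶ S` flat and `g : Y ⟶ S`, both locally of finite
presentation, an `S`-morphism `f : X ⟶ Y` is smooth iff all fibre maps `X_s ⟶ Y_s` are. -/
theorem smooth_iff_forall_smooth_fiberMap_of_flat {X Y S : Scheme.{u}} (g : Y ⟶ S) (h : X ⟶ S)
    [LocallyOfFinitePresentation g] [LocallyOfFinitePresentation h] [Flat h]
    (f : X ⟶ Y) (w : f ≫ g = h) :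
    Smooth f ↔ ∀ s : S, Smooth (pullback.snd f (g.fiberι s)) := by
  have hf : LocallyOfFinitePresentation f :=
    Groth.Agent.Lib.Helper79.lfp_of_comp (g := g) (by rw [w]; infer_instance) inferInstance
  constructor
  · intro _ s
    infer_instance
  · intro H
    rw [← Scheme.Hom.smoothLocus_eq_top_iff, ← top_le_iff]
    rintro x -
    subst w
    exact mem_smoothLocus_of_flat_of_forall_smooth_fiberMap g f x (Flat.stalkMap (f ≫ g) x)
      (H _)

/-- EGA IV 17.8.2 (global form, étale case). -/
theorem etale_iff_forall_etale_fiberMap_of_flat {X Y S : Scheme.{u}} (g : Y ⟶ S) (h : X ⟶ S)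
    [LocallyOfFinitePresentation g] [LocallyOfFinitePresentation h] [Flat h]
    (f : X ⟶ Y) (w : f ≫ g = h) :
    Etale f ↔ ∀ s : S, Etale (pullback.snd f (g.fiberι s)) := by
  have hf : LocallyOfFinitePresentation f :=
    Groth.Agent.Lib.Helper79.lfp_of_comp (g := g) (by rw [w]; infer_instance) inferInstance
  constructor
  · intro _ s
    infer_instance
  · intro H
    have hsm : Smooth f :=
      (smooth_iff_forall_smooth_fiberMap_of_flat g h f w).mpr fun s => inferInstance
    have hunr : FormallyUnramified f := by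
      refine formallyUnramified_of_forall_exists_nhd f fun x => ?_
      set s := g (f x) with hs
      have hy : f x ∈ Set.range (g.fiberι s) := by
        rw [Scheme.Hom.range_fiberι]; rfl
      obtain ⟨y, hy⟩ := hy
      obtain ⟨z, hz₁, hz₂⟩ := Scheme.Pullback.exists_preimage_pullback (f := f)
        (g := g.fiberι s) x y hy.symm
      have := exists_nhd_formallyUnramified_of_isPullback f (g.fiberι s)
        (pullback.fst f (g.fiberι s)) (pullback.snd f (g.fiberι s))
        (IsPullback.of_hasPullback _ _) z ⟨⊤, trivial, MorphismProperty.comp_mem _ _ _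
          (inferInstance : FormallyUnramified (⊤ : (pullback f (g.fiberι s)).Opens).ι)
          (inferInstance : FormallyUnramified (pullback.snd f (g.fiberι s)))⟩
      rwa [hz₁] at this
    exact Etale.of_formallyUnramified_of_flat f

/-- EGA IV 17.8.2-type consequence: if `h = f ≫ g` is flat and all fibre maps of `f` are smooth,
then `g` is flat at all points of the image of `f`. -/
theorem flat_stalkMap_of_forall_smooth_fiberMap_of_flat {X Y S : Scheme.{u}} (g : Y ⟶ S) (h : X ⟶ S)
    [LocallyOfFinitePresentation g] [LocallyOfFinitePresentation h] [Flat h]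
    (f : X ⟶ Y) (w : f ≫ g = h) (hf : ∀ s : S, Smooth (pullback.snd f (g.fiberι s))) (x : X) :
    (g.stalkMap (f x)).hom.Flat := by
  have hsm : Smooth f := (smooth_iff_forall_smooth_fiberMap_of_flat g h f w).mpr hf
  subst w
  exact flat_stalkMap_of_flat_stalkMap_comp f g x (Flat.stalkMap f x) (Flat.stalkMap (f ≫ g) x)

end Groth.Agent.Lib.Helper19
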