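import Mathlib.RingTheory.Smooth.Fiber
import Mathlib.RingTheory.Smooth.Flat
import Mathlib.RingTheory.Flat.Localization

set_option autoImplicit false

open TensorProduct IsLocalRing KaehlerDifferential

namespace Groth.Agent.Lib.Helper19

local notation "𝓀[" R "]" => ResidueField R
local notation "𝓂[" R "]" => maximalIdeal R

section Fiber

variable {R S : Type*} [CommRing R] [CommRing S] [Algebra R S] [IsLocalRing S]
  (p : Ideal R) [p.IsPrime]

/-- If `S` is a local `R`-algebra whose maximal ideal lies over `p`, then `S → κ(p) ⊗[R] S` is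
surjective. -/
lemma fiber_includeRight_surjective (hp : (𝓂[S]).comap (algebraMap R S) = p) :
    Function.Surjective (Algebra.TensorProduct.includeRight : S →ₐ[R] p.ResidueField ⊗[R] S) := by
  intro x
  obtain ⟨r, hr, s, hrs⟩ := Ideal.Fiber.exists_smul_eq_one_tmul p x
  have hu : IsUnit (algebraMap R S r) := by
    by_contra h
    exact hr (hp ▸ (show algebraMap R S r ∈ 𝓂[S] from h))
  obtain ⟨u, hu⟩ := hu
  refine ⟨↑u⁻¹ * s, ?_⟩
  have h1 : x = ((1 : p.ResidueField) ⊗ₜ[R] (↑u⁻¹ : S)) * (r • x) := by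
    rw [mul_smul_comm, ← smul_mul_assoc, TensorProduct.smul_tmul', TensorProduct.smul_tmul,
      Algebra.smul_def, ← hu, Units.mul_inv, ← Algebra.TensorProduct.one_def, one_mul]
  rw [h1, hrs, Algebra.TensorProduct.tmul_mul_tmul, one_mul]
  rfl

end Fiber

section Local

variable {R B S P : Type*} [CommRing R] [CommRing B] [CommRing S] [CommRing P]
  [Algebra R B] [Algebra R S] [Algebra B S] [IsScalarTower R B S]
  [Algebra R P] [Algebra B P] [Algebra P S] [IsScalarTower R B P] [IsScalarTower B P S]
  [IsScalarTower R P S]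
  [Module.Flat R S] [IsLocalRing S]

set_option backward.defeqAttrib.useBackward true in
set_option backward.isDefEq.respectTransparency false in
attribute [local instance] Algebra.TensorProduct.rightAlgebra in
/-- Relative version of Mathlib's (private) `FormallySmooth.of_formallySmooth_residueField_tensor_aux`:
`R` a ring with a prime `p`, `B` any `R`-algebra, `S` a local `B`-algebra which is `R`-flat and
whose maximal ideal lies over `p`, with a presentation
`S = P/I` over `B` (`P` formally smooth over `B` with finite free differentials, `I` f.g.).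
If `κ(p) ⊗[R] S` is formally smooth over `κ(p) ⊗[R] B` then `S` is formally smooth over `B`. -/
lemma formallySmooth_of_fiber_rel_aux (p : Ideal R) [p.IsPrime]
    (hp : (𝓂[S]).comap (algebraMap R S) = p)
    [Algebra.FormallySmooth B P] [Module.Free P Ω[P⁄B]] [Module.Finite P Ω[P⁄B]]
    (h₁ : Function.Surjective (algebraMap P S)) (h₂ : (RingHom.ker (algebraMap P S)).FG)
    (hfib : (Algebra.TensorProduct.map (AlgHom.id p.ResidueField p.ResidueField)
      (IsScalarTower.toAlgHom R B S)).toRingHom.FormallySmooth) :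
    Algebra.FormallySmooth B S := by
  let k := p.ResidueField
  let Bp := k ⊗[R] B
  let Sp := k ⊗[R] S
  let Pp := k ⊗[R] P
  let φB : Bp →ₐ[k] Pp := Algebra.TensorProduct.map (.id _ _) (IsScalarTower.toAlgHom _ _ _)
  let φBS : Bp →ₐ[k] Sp := Algebra.TensorProduct.map (.id _ _) (IsScalarTower.toAlgHom _ _ _)
  let φ : Pp →ₐ[k] Sp := Algebra.TensorProduct.map (.id _ _) (IsScalarTower.toAlgHom _ _ _)
  let kK : k →ₐ[R] 𝓀[S] := Ideal.ResidueField.liftₐ p (Algebra.ofId R 𝓀[S])
    (fun x hx ↦ by
      have : algebraMap R S x ∈ 𝓂[S] := by rw [← hp] at hx; exact hx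
      rw [RingHom.mem_ker, Algebra.ofId_apply, IsScalarTower.algebraMap_apply R S 𝓀[S]]
      exact (residue_eq_zero_iff _).mpr this)
    (fun x hx ↦ by
      have : algebraMap R S x ∉ 𝓂[S] := fun h ↦ hx (hp ▸ (show x ∈ (𝓂[S]).comap _ from h))
      have hu : IsUnit (algebraMap R S x) := by
        by_contra h; exact this h
      change IsUnit (Algebra.ofId R 𝓀[S] x)
      rw [Algebra.ofId_apply, IsScalarTower.algebraMap_apply R S 𝓀[S]]
      exact hu.map _)
  let ψ : Sp →ₐ[R] 𝓀[S] := Algebra.TensorProduct.lift kK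
    (IsScalarTower.toAlgHom _ _ _) fun _ _ ↦ .all _ _
  have hsurj : Function.Surjective (Algebra.TensorProduct.includeRight : S →ₐ[R] Sp) :=
    fiber_includeRight_surjective p hp
  have : Nontrivial Sp := ψ.toRingHom.domain_nontrivial
  have : IsLocalRing Sp := .of_surjective' Algebra.TensorProduct.includeRight.toRingHom hsurj
  algebraize [φB.toRingHom, φBS.toRingHom, φ.toRingHom, (φ.toRingHom.comp (algebraMap P Pp)),
    ψ.toRingHom, ψ.toRingHom.comp φ.toRingHom, (algebraMap P Pp).comp (algebraMap B P)]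
  have : Algebra.FormallySmooth Bp Sp := hfib
  have := IsScalarTower.of_algebraMap_eq' φ.comp_algebraMap.symm
  have := IsScalarTower.of_algebraMap_eq' φB.comp_algebraMap.symm
  have := IsScalarTower.of_algebraMap_eq' ψ.comp_algebraMap.symm
  have : IsScalarTower P S Sp := .of_algebraMap_eq' rfl
  have : IsScalarTower S Sp 𝓀[S] := .of_algebraMap_eq fun r ↦ by
    simp [RingHom.algebraMap_toAlgebra, ψ, Sp]
  have : IsScalarTower P Sp 𝓀[S] := .to₁₃₄ _ S _ _
  have : IsScalarTower P Pp 𝓀[S] := .to₁₂₄ _ _ Sp _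
  have : IsScalarTower Bp Pp Sp := .of_algebraMap_eq' <| by
    change φBS.toRingHom = φ.toRingHom.comp φB.toRingHom
    have e1 : (IsScalarTower.toAlgHom R P S).comp (IsScalarTower.toAlgHom R B P) =
        IsScalarTower.toAlgHom R B S := by
      ext x; exact (IsScalarTower.algebraMap_apply B P S x).symm
    have : φBS = φ.comp φB := by
      simp only [φBS, φ, φB]
      rw [← Algebra.TensorProduct.map_comp, e1, AlgHom.comp_id]
    rw [this]; rfl
  have : IsScalarTower B Bp Pp := .of_algebraMap_eq' rfl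
  have : IsScalarTower R Bp Pp := .to₁₃₄ _ k _ _
  have : IsScalarTower R B Pp := .to₁₂₄ _ _ P _
  have hpo : Algebra.IsPushout B P Bp Pp :=
    (Algebra.IsPushout.comp_iff R B k (S' := Bp) (T := P) (T' := Pp)).mp inferInstance
  have hpo' : Algebra.IsPushout B Bp P Pp := hpo.symm
  have : Algebra.FormallySmooth Bp Pp :=
    .of_equiv (Algebra.IsPushout.equiv B Bp P Pp)
  let e₀ : Ω[Pp⁄Bp] ≃ₗ[Pp] Pp ⊗[P] Ω[P⁄B] :=
    (KaehlerDifferential.tensorKaehlerEquiv B Bp P Pp).symm
  have : Module.Free Pp Ω[Pp⁄Bp] := .of_equiv e₀.symm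
  have : Module.Finite Pp Ω[Pp⁄Bp] := .of_surjective e₀.symm.toLinearMap e₀.symm.surjective
  let e₁ : RingHom.ker φ ≃ₗ[Pp] Pp ⊗[P] RingHom.ker (algebraMap P S) :=
    Algebra.kerTensorProductMapIdToAlgHomEquiv _ _ _ _ h₁
  have h₁' : Function.Surjective φ := LinearMap.lTensor_surjective _ h₁
  have h₂' : (RingHom.ker φ).FG := by
    suffices Module.Finite Pp (RingHom.ker φ) from (Submodule.fg_top _).mp this.1
    have : Module.Finite P (RingHom.ker (algebraMap P S)) := ⟨(Submodule.fg_top _).mpr h₂⟩
    exact .equiv e₁.symm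
  have h₃ : 𝓂[Sp] ≤ RingHom.ker ψ := by
    intro x hx
    obtain ⟨x, rfl⟩ := hsurj x
    have : ¬IsUnit x := fun h ↦ hx <| h.map Algebra.TensorProduct.includeRight
    simpa [ψ, Sp]
  rw [Algebra.FormallySmooth.iff_injective_cotangentComplexBaseChange_residueField (P := P) h₁ h₂]
  have := (Algebra.FormallySmooth.iff_injective_cotangentComplexBaseChange
    (R := Bp) _ _ h₁' h₂' h₃).mp inferInstance
  let eᵣ : 𝓀[S] ⊗[Pp] Ω[Pp⁄Bp] ≃ₗ[S] 𝓀[S] ⊗[P] Ω[P⁄B] :=
    (AlgebraTensorModule.congr (.refl 𝓀[S] _) e₀).restrictScalars S ≪≫ₗ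
      (AlgebraTensorModule.cancelBaseChange P Pp Sp 𝓀[S] Ω[P⁄B]).restrictScalars S
  let eₗ : 𝓀[S] ⊗[Pp] RingHom.ker φ ≃ₗ[S] 𝓀[S] ⊗[P] RingHom.ker (algebraMap P S) :=
    (AlgebraTensorModule.congr (.refl 𝓀[S] 𝓀[S]) e₁).restrictScalars S ≪≫ₗ
      (AlgebraTensorModule.cancelBaseChange P Pp Sp 𝓀[S] _).restrictScalars S
  have key : ∀ p' : P, (KaehlerDifferential.tensorKaehlerEquiv B Bp P Pp).symm
      (D Bp Pp ((1 : k) ⊗ₜ[R] p')) = (1 : Pp) ⊗ₜ[P] D B P p' := by
    intro p'
    rw [LinearEquiv.symm_apply_eq, KaehlerDifferential.tensorKaehlerEquiv_tmul_D, one_smul]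
    rfl
  convert! (eᵣ.injective.comp this).comp eₗ.symm.injective
  ext x
  dsimp
  induction x with
  | zero => simp only [LinearEquiv.map_zero, LinearMap.map_zero]
  | add x y _ _ => simp only [LinearEquiv.map_add, LinearMap.map_add, *]
  | tmul x y =>
  dsimp [eₗ, eᵣ, e₁, KaehlerDifferential.cotangentComplexBaseChange,
    Algebra.TensorProduct.one_def, Pp, smul_tmul']
  rw [Algebra.kerTensorProductMapIdToAlgHomEquiv_symm_apply]
  simp only [e₀, Pp]
  erw [key]
  simp

end Local

section Local2

variable {R B S P : Type*} [CommRing R] [CommRing B] [CommRing S] [CommRing P]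
  [Algebra R B] [Algebra R S] [Algebra B S] [IsScalarTower R B S]
  [Algebra B P] [Algebra P S] [IsScalarTower B P S]
  [Module.Flat R S] [IsLocalRing S]

/-- Relative version of Mathlib's `FormallySmooth.of_formallySmooth_residueField_tensor`. -/
lemma formallySmooth_of_fiber_rel (p : Ideal R) [p.IsPrime]
    (hp : (𝓂[S]).comap (algebraMap R S) = p) (M : Submonoid P)
    [IsLocalization M S] [Algebra.FinitePresentation B P]
    (hfib : (Algebra.TensorProduct.map (AlgHom.id p.ResidueField p.ResidueField)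
      (IsScalarTower.toAlgHom R B S)).toRingHom.FormallySmooth) :
    Algebra.FormallySmooth B S := by
  obtain ⟨n, f₀, hf₀⟩ := Algebra.FiniteType.iff_quotient_mvPolynomial''.mp
    (inferInstance : Algebra.FiniteType B P)
  let M' := M.comap f₀
  let P' := Localization M'
  let fP : P' →ₐ[B] S := IsLocalization.liftAlgHom (M := M')
      (f := (IsScalarTower.toAlgHom B P S).comp f₀) fun x ↦ by
    simpa using IsLocalization.map_units (M := M) _ ⟨f₀ x.1, x.2⟩
  have hf₁ : Function.Surjective fP := by
    intro x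
    obtain ⟨x, ⟨s, hs⟩, rfl⟩ := IsLocalization.exists_mk'_eq M x
    obtain ⟨x, rfl⟩ := hf₀ x
    obtain ⟨s, rfl⟩ := hf₀ s
    refine ⟨IsLocalization.mk' (M := M') _ x ⟨s, hs⟩, ?_⟩
    simp [fP, IsLocalization.lift_mk', Units.mul_inv_eq_iff_eq_mul, IsUnit.liftRight]
  have hfP : (RingHom.ker fP).FG := by
    have := Algebra.FinitePresentation.ker_fG_of_surjective _ hf₀
    convert! this.map (algebraMap _ P')
    refine le_antisymm ?_ (Ideal.map_le_iff_le_comap.mpr fun x hx ↦ by simp_all [fP])
    intro x hx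
    obtain ⟨x, s, rfl⟩ := IsLocalization.exists_mk'_eq M' x
    obtain ⟨a, ha, e⟩ : ∃ a ∈ M, a * f₀ x = 0 := by
      simpa [fP, IsLocalization.lift_mk', IsLocalization.map_eq_zero_iff M] using hx
    obtain ⟨a, rfl⟩ := hf₀ a
    rw [IsLocalization.mk'_mem_map_algebraMap_iff]
    exact ⟨a, ha, by simpa⟩
  algebraize [fP.toRingHom, (algebraMap B P').comp (algebraMap R B)]
  have : IsScalarTower B P' S := .of_algebraMap_eq' fP.comp_algebraMap.symm
  have : IsScalarTower R P' S := .of_algebraMap_eq' <| by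
    change algebraMap R S = (algebraMap P' S).comp ((algebraMap B P').comp (algebraMap R B))
    rw [← RingHom.comp_assoc, ← IsScalarTower.algebraMap_eq B P' S,
      ← IsScalarTower.algebraMap_eq R B S]
  have : Algebra.FormallyEtale (MvPolynomial (Fin n) B) P' := .of_isLocalization M'
  have : Algebra.FormallySmooth B P' := .comp _ (MvPolynomial (Fin n) B) _
  have : Module.Free P' Ω[P'⁄B] :=
    .of_equiv (KaehlerDifferential.tensorKaehlerEquivOfFormallyEtale B (MvPolynomial (Fin n) B) P')
  exact formallySmooth_of_fiber_rel_aux (R := R) (B := B) (S := S) (P := P') p hp hf₁ hfP hfib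

end Local2

section Global

universe u

variable {A B C : Type u} [CommRing A] [CommRing B] [CommRing C] [Algebra A B] [Algebra B C]
  [Algebra A C] [IsScalarTower A B C]

attribute [local instance] Algebra.TensorProduct.rightAlgebra in
/-- `k ⊗ C → k ⊗ D` is formally smooth if `C → D` is. -/
lemma formallySmooth_tensorMap (k : Type u) [CommRing k] [Algebra A k]
    (D : Type u) [CommRing D] [Algebra A D] [Algebra C D] [IsScalarTower A C D]
    [Algebra.FormallySmooth C D] :
    (Algebra.TensorProduct.map (AlgHom.id k k)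
      (IsScalarTower.toAlgHom A C D)).toRingHom.FormallySmooth := by
  let φ : k ⊗[A] C →ₐ[k] k ⊗[A] D :=
    Algebra.TensorProduct.map (AlgHom.id k k) (IsScalarTower.toAlgHom A C D)
  algebraize [φ.toRingHom, (algebraMap D (k ⊗[A] D)).comp (algebraMap C D)]
  have := IsScalarTower.of_algebraMap_eq' φ.comp_algebraMap.symm
  have : IsScalarTower C (k ⊗[A] C) (k ⊗[A] D) := .of_algebraMap_eq' rfl
  have : IsScalarTower A (k ⊗[A] C) (k ⊗[A] D) := .to₁₃₄ _ k _ _
  have hpo : Algebra.IsPushout C D (k ⊗[A] C) (k ⊗[A] D) :=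
    (Algebra.IsPushout.comp_iff A C k (S' := k ⊗[A] C) (T := D) (T' := k ⊗[A] D)).mp inferInstance
  have h := RingHom.FormallySmooth.isStableUnderBaseChange C D (k ⊗[A] C) (k ⊗[A] D)
    ((RingHom.formallySmooth_algebraMap).mpr inferInstance)
  exact h

/-- **Relative fibre criterion for smoothness** (ring level, EGA IV 17.8.2): let `A → B → C` with
`C` of finite presentation over `B`, `q` a prime of `C` over the prime `p` of `A` such that `C_q`
is flat over `A`. If `κ(p) ⊗[A] C` is formally smooth over `κ(p) ⊗[A] B` then `C` is smooth over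
`B` at `q`. -/
theorem isSmoothAt_of_flat_of_formallySmooth_fiber_rel [Algebra.FinitePresentation B C]
    (p : Ideal A) [p.IsPrime] (q : Ideal C) [q.IsPrime] [q.LiesOver p]
    [Module.Flat A (Localization.AtPrime q)]
    (hfib : (Algebra.TensorProduct.map (AlgHom.id p.ResidueField p.ResidueField)
      (IsScalarTower.toAlgHom A B C)).toRingHom.FormallySmooth) :
    Algebra.IsSmoothAt B q := by
  let S := Localization.AtPrime q
  have hp : (𝓂[S]).comap (algebraMap A S) = p := by
    rw [IsScalarTower.algebraMap_eq A C S, ← Ideal.comap_comap]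
    have h1 : Ideal.comap (algebraMap C S) 𝓂[S] = q := Localization.AtPrime.comap_maximalIdeal
    rw [h1, q.over_def p]
  have hfib' : (Algebra.TensorProduct.map (AlgHom.id p.ResidueField p.ResidueField)
      (IsScalarTower.toAlgHom A B S)).toRingHom.FormallySmooth := by
    have e1 : (IsScalarTower.toAlgHom A C S).comp (IsScalarTower.toAlgHom A B C) =
        IsScalarTower.toAlgHom A B S := by
      ext x; exact (IsScalarTower.algebraMap_apply B C S x).symm
    have h2 := formallySmooth_tensorMap (A := A) (C := C) p.ResidueField S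
    have h3 := hfib.comp h2
    have e2 : Algebra.TensorProduct.map (AlgHom.id p.ResidueField p.ResidueField)
        (IsScalarTower.toAlgHom A B S) =
        (Algebra.TensorProduct.map (AlgHom.id p.ResidueField p.ResidueField)
          (IsScalarTower.toAlgHom A C S)).comp
        (Algebra.TensorProduct.map (AlgHom.id p.ResidueField p.ResidueField)
          (IsScalarTower.toAlgHom A B C)) := by
      rw [← Algebra.TensorProduct.map_comp, e1, AlgHom.comp_id]
    rw [e2]
    exact h3
  exact formallySmooth_of_fiber_rel (R := A) (B := B) (S := S) (P := C) p hp q.primeCompl hfib'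

end Global

end Groth.Agent.Lib.Helper19
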