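import Groth.Agent.Lib.Helper19.Sm.RelFiberRing
import Mathlib.AlgebraicGeometry.Pullbacks
import Mathlib.AlgebraicGeometry.Morphisms.Smooth

set_option autoImplicit false
universe u
open CategoryTheory CategoryTheory.Limits AlgebraicGeometry TensorProduct

namespace Groth.Agent.Lib.Helper19

section

variable (A B C : Type u) [CommRing A] [CommRing B] [CommRing C] [Algebra A B] [Algebra B C]
  [Algebra A C] [IsScalarTower A B C] (k : Type u) [CommRing k] [Algebra A k]

/-- The map `k ⊗[A] B → k ⊗[A] C` induced by `B → C`. -/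
noncomputable abbrev tensorMapRingHom : k ⊗[A] B →+* k ⊗[A] C :=
  (Algebra.TensorProduct.map (AlgHom.id k k) (IsScalarTower.toAlgHom A B C)).toRingHom

/-- `Spec (k ⊗ B) = Spec B ×_{Spec A} Spec k`. -/
lemma isPullback_Spec_tensor :
    IsPullback
      (Spec.map (CommRingCat.ofHom (Algebra.TensorProduct.includeRight.toRingHom :
        B →+* k ⊗[A] B)))
      (Spec.map (CommRingCat.ofHom (algebraMap k (k ⊗[A] B))))
      (Spec.map (CommRingCat.ofHom (algebraMap A B)))
      (Spec.map (CommRingCat.ofHom (algebraMap A k))) :=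
  (isPullback_SpecMap_of_isPushout _ _ _ _ (CommRingCat.isPushout_tensorProduct A k B)).flip

attribute [local instance] Algebra.TensorProduct.rightAlgebra in
/-- `Spec (k ⊗ C) = Spec C ×_{Spec B} Spec (k ⊗ B)`. -/
lemma isPullback_Spec_tensorMap :
    IsPullback
      (Spec.map (CommRingCat.ofHom (Algebra.TensorProduct.includeRight.toRingHom :
        C →+* k ⊗[A] C)))
      (Spec.map (CommRingCat.ofHom (tensorMapRingHom A B C k)))
      (Spec.map (CommRingCat.ofHom (algebraMap B C)))
      (Spec.map (CommRingCat.ofHom (Algebra.TensorProduct.includeRight.toRingHom :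
        B →+* k ⊗[A] B))) := by
  let φ : k ⊗[A] B →ₐ[k] k ⊗[A] C :=
    Algebra.TensorProduct.map (AlgHom.id k k) (IsScalarTower.toAlgHom A B C)
  algebraize [φ.toRingHom, (algebraMap C (k ⊗[A] C)).comp (algebraMap B C)]
  have := IsScalarTower.of_algebraMap_eq' φ.comp_algebraMap.symm
  have : IsScalarTower B (k ⊗[A] B) (k ⊗[A] C) := .of_algebraMap_eq' rfl
  have : IsScalarTower A (k ⊗[A] B) (k ⊗[A] C) := .to₁₃₄ _ k _ _
  have hpo : Algebra.IsPushout B C (k ⊗[A] B) (k ⊗[A] C) :=
    (Algebra.IsPushout.comp_iff A B k (S' := k ⊗[A] B) (T := C) (T' := k ⊗[A] C)).mp inferInstance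
  have h := CommRingCat.isPushout_of_isPushout B C (k ⊗[A] B) (k ⊗[A] C)
  exact isPullback_SpecMap_of_isPushout _ _ _ _ h

end

end Groth.Agent.Lib.Helper19
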