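import Mathlib.RingTheory.Smooth.Fiber
import Mathlib.RingTheory.Smooth.Flat
import Mathlib.RingTheory.Flat.Localization

set_option autoImplicit false
universe u

open TensorProduct IsLocalRing

namespace Groth.Agent.Lib.Helper19

local notation "𝓀[" R "]" => ResidueField R

/-- Pointwise version of Mathlib's `Algebra.IsSmoothAt.of_formallySmooth_fiber`: only flatness of
`S_q` over `R_p` is needed (same proof). -/
lemma isSmoothAt_of_flat_of_formallySmooth_fiber {R S : Type u} [CommRing R] [CommRing S]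
    [Algebra R S] [Algebra.FinitePresentation R S] (p : Ideal R) (q : Ideal S)
    [p.IsPrime] [q.IsPrime] [q.LiesOver p]
    [Algebra (Localization.AtPrime p) (Localization.AtPrime q)]
    [Localization.AtPrime.IsLiesOverAlgebra p q]
    [Module.Flat (Localization.AtPrime p) (Localization.AtPrime q)]
    [Algebra.FormallySmooth p.ResidueField (p.Fiber S)] :
    Algebra.IsSmoothAt R q := by
  let Rp := Localization.AtPrime p
  let Sp := Localization (Algebra.algebraMapSubmonoid S p.primeCompl)
  let Sq := Localization.AtPrime q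
  let f : Sp →ₐ[S] Sq := IsLocalization.liftAlgHom (M := Algebra.algebraMapSubmonoid S p.primeCompl)
        (f := Algebra.ofId _ _) (by
      rintro ⟨_, x, hx, rfl⟩
      simpa using! IsLocalization.map_units (M := q.primeCompl) Sq ⟨algebraMap _ _ x,
        by simp_all [q.over_def p]⟩)
  algebraize [f.toRingHom]
  have : IsScalarTower R Sp Sq := .to₁₃₄ _ S _ _
  have : IsScalarTower Rp Sp Sq := .of_algebraMap_eq' <| by
    apply IsLocalization.ringHom_ext p.primeCompl
    simp only [RingHom.comp_assoc, ← IsScalarTower.algebraMap_eq]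
  have : IsLocalization (Algebra.algebraMapSubmonoid Sp q.primeCompl) Sq :=
    .isLocalization_of_submonoid_le _ _ (Algebra.algebraMapSubmonoid S p.primeCompl) _
    (by rintro _ ⟨x, hx, rfl⟩; simp_all [q.over_def p])
  have : Algebra.FinitePresentation Rp Sp := by
    have : Algebra.IsPushout R Rp S Sp :=
      .symm <| Algebra.isPushout_of_isLocalization p.primeCompl _ _ _
    exact .equiv (Algebra.IsPushout.equiv R Rp S Sp)
  have : Algebra.FormallySmooth 𝓀[Rp] (𝓀[Rp] ⊗[Rp] Sq) := by
    let : Algebra S (𝓀[Rp] ⊗[R] S) := Algebra.TensorProduct.rightAlgebra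
    have : Algebra.FormallySmooth 𝓀[Rp] ((𝓀[Rp] ⊗[R] S) ⊗[S] Sq) :=
      .comp _ (𝓀[Rp] ⊗[R] S) _
    let e : 𝓀[Rp] ⊗[R] S ≃ₐ[S] S ⊗[R] 𝓀[Rp] :=
      { __ := Algebra.TensorProduct.comm _ _ _, commutes' _ := rfl }
    let e' : (𝓀[Rp] ⊗[R] S) ⊗[S] Sq ≃ₐ[R] 𝓀[Rp] ⊗[Rp] Sq :=
      ((Algebra.TensorProduct.comm _ _ _).restrictScalars R).trans <|
      ((Algebra.TensorProduct.congr (.refl (R := S)) e).restrictScalars R).trans <|
      ((Algebra.TensorProduct.cancelBaseChange _ _ S _ _).restrictScalars R).trans <|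
      (Algebra.TensorProduct.comm _ _ _).trans (Algebra.TensorProduct.equivOfCompatibleSMul ..)
    have : e'.toAlgHom.comp (IsScalarTower.toAlgHom R p.ResidueField _) =
        IsScalarTower.toAlgHom _ _ _ := by ext
    let e'' : (𝓀[Rp] ⊗[R] S) ⊗[S] Sq ≃ₐ[𝓀[Rp]] 𝓀[Rp] ⊗[Rp] Sq :=
      { __ := e', commutes' r := congr($this r) }
    exact .of_equiv e''
  have := Algebra.FormallySmooth.of_formallySmooth_residueField_tensor
    (R := Rp) (S := Sq) (P := Sp) (Algebra.algebraMapSubmonoid _ q.primeCompl)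
  exact .comp R Rp Sq

end Groth.Agent.Lib.Helper19
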