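import Groth.Agent.Lib.Helper19.Sm.H1Support
import Groth.Agent.Lib.Helper19.Sm.FreeLocusDescent
import Mathlib.RingTheory.Kaehler.TensorProduct
import Mathlib.RingTheory.Smooth.Locus

set_option autoImplicit false
universe u

open TensorProduct PrimeSpectrum

namespace Groth.Agent.Lib.Helper19

section
attribute [local instance] Algebra.TensorProduct.rightAlgebra

/-- Flat descent of the smooth locus, for the literal tensor product. -/
lemma comap_mem_smoothLocus_tensorProduct (A B A' : Type u) [CommRing A] [CommRing B] [CommRing A']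
    [Algebra A B] [Algebra A A'] [Algebra.FinitePresentation A B] [Module.Flat A A']
    (P' : PrimeSpectrum (A' ⊗[A] B)) (h : P' ∈ Algebra.smoothLocus A' (A' ⊗[A] B)) :
    comap (algebraMap B (A' ⊗[A] B)) P' ∈ Algebra.smoothLocus A B := by
  rw [Algebra.smoothLocus_eq_compl_support_inter] at h ⊢
  refine ⟨notMem_support_h1Cotangent_of_baseChange A B A' P' h.1, ?_⟩
  have h2 := h.2
  have hflatB : Module.Flat B (A' ⊗[A] B) := by
    let e : B ⊗[A] A' ≃ₐ[B] A' ⊗[A] B :=
      .ofRingEquiv (f := (Algebra.TensorProduct.comm A B A').toRingEquiv) <| by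
        intro b
        simp [RingHom.algebraMap_toAlgebra]
    exact Module.Flat.of_linearEquiv e.symm.toLinearEquiv
  rw [← Module.freeLocus_congr (KaehlerDifferential.tensorKaehlerEquiv A A' B (A' ⊗[A] B))] at h2
  exact comap_mem_freeLocus_of_flat P' h2

/-- Flat descent of the smooth locus along a pushout square of rings: if `A'` is flat over `A`,
`B` is finitely presented over `A` and `B' = A' ⊗_A B` is smooth over `A'` at `P'`, then `B` is
smooth over `A` at the contraction of `P'`. -/
lemma comap_mem_smoothLocus_of_isPushout {A A' B B' : Type u} [CommRing A] [CommRing A']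
    [CommRing B] [CommRing B'] [Algebra A A'] [Algebra A B] [Algebra A' B'] [Algebra B B']
    [Algebra A B'] [IsScalarTower A A' B'] [IsScalarTower A B B'] [Algebra.IsPushout A A' B B']
    [Algebra.FinitePresentation A B] [Module.Flat A A'] (P' : PrimeSpectrum B')
    (h : P' ∈ Algebra.smoothLocus A' B') :
    comap (algebraMap B B') P' ∈ Algebra.smoothLocus A B := by
  let e : A' ⊗[A] B ≃ₐ[A'] B' := Algebra.IsPushout.equiv A A' B B'
  let Q : PrimeSpectrum (A' ⊗[A] B) := comap (e : A' ⊗[A] B →+* B') P'
  have hQ : Q ∈ Algebra.smoothLocus A' (A' ⊗[A] B) := by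
    have hmap : Submonoid.map e Q.asIdeal.primeCompl = P'.asIdeal.primeCompl := by
      ext x
      constructor
      · rintro ⟨y, hy, rfl⟩
        exact hy
      · intro hx
        refine ⟨e.symm x, ?_, by simp⟩
        change e (e.symm x) ∉ P'.asIdeal
        simpa using hx
    let e' : Localization.AtPrime Q.asIdeal ≃ₐ[A'] Localization.AtPrime P'.asIdeal :=
      IsLocalization.algEquivOfAlgEquiv _ _ e hmap
    have : Algebra.FormallySmooth A' (Localization.AtPrime P'.asIdeal) := h
    exact Algebra.FormallySmooth.of_equiv e'.symm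
  have key := comap_mem_smoothLocus_tensorProduct A B A' Q hQ
  have heq : comap (algebraMap B (A' ⊗[A] B)) Q = comap (algebraMap B B') P' := by
    ext b
    change e (algebraMap B (A' ⊗[A] B) b) ∈ P'.asIdeal ↔ algebraMap B B' b ∈ P'.asIdeal
    have : e (algebraMap B (A' ⊗[A] B) b) = algebraMap B B' b := by
      change e (1 ⊗ₜ[A] b) = _
      rw [Algebra.IsPushout.equiv_tmul, map_one, one_mul]
    rw [this]
  rw [← heq]
  exact key

end

end Groth.Agent.Lib.Helper19
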